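import Cfsg.Agent.Lib.Helper19.Suzc.Main
import Cfsg.Agent.Lib.Helper19.TC2P

/-! Generated file: certificates for the order of a presented group. -/

set_option autoImplicit false
set_option maxRecDepth 1000000

namespace Cfsg.Agent.Lib.Helper19.OrdSuz.LX

open Cfsg.Agent.Lib.Helper19.TCS (evn evn_rot evn_rev evn_pair AllS forall_of_allS lift_rels mk_eq_lift cox_swap shapeI prod_rep index_of_equiv orbit_ncard orbit_image ncard_interval fix_of_closure RC)
open Cfsg.Agent.Lib.Helper19.TC2
open Cfsg.Spor Cfsg.Agent.Lib.Helper19.PresSuz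
open Cfsg.Agent.Lib.Helper19.Suzc


noncomputable def EO1 : Tb := (.leaf 0x603a4817871005e1a80160aa305611801584b0054414c148a9105227801381f0048300c1187210460b8c110ea204420801003a303e03c00e8143038438c0d084203414800d0bf003001cc0b820002e08800b009102a0a800a0ca302414c4090830022008c0801010200f4c07817201e10840708c301a0bc8068733016018805824001609c805059001411cc040031010048403833300c00480300b200a068002805100803880181e10040e400086030002500000d2)

noncomputable def PO1 : Tb := (.node (.node (.node (.node (.node (.leaf 0xb8000000a00180000000000000014000000000260ac000000000740000001e0000001000007c0002005c0100000000001c0000002c0000002600002c0001804e014000000100000f0000420440300001806404800) (.leaf 0x0)) (.node (.leaf 0x0) (.leaf 0x0))) (.node (.node (.leaf 0x9400000000000000000000001880000000000000) (.leaf 0x0)) (.leaf 0x0))) (.node (.node (.node (.leaf 0x4400000000000000000000000000000000000000000000000000000000d01800000000000000000000000000000bc000000000000000000000000001000000000000000000001400000000000000000000240340a400000) (.leaf 0x0))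 (.node (.leaf 0x0) (.leaf 0x0))) (.node (.node (.leaf 0x0) (.leaf 0x0)) (.leaf 0x0)))) (.node (.node (.node (.node (.leaf 0x240b01b000000000000000000d400000000000000000000000000200000000000000000070000000000000003608c00000000000000000640000000001a0cc0000000005400000) (.leaf 0x0)) (.node (.leaf 0x0) (.leaf 0x0))) (.node (.node (.leaf 0x0) (.leaf 0x0)) (.leaf 0x0))) (.node (.node (.node (.leaf 0xa81b8000000000000000000000000000000000000000000000000000000000000000000000000000000000007000000000000000000000000002d) (.leaf 0x0)) (.node (.leaf 0x0) (.leaf 0x0))) (.node (.node (.leaf 0x0) (.leaf 0x0)) (.leaf 0x0)))))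

theorem lbc1 : loop (chkO cB EO1 PO1 26 67108863 [1, 2, 3, 5] 210) 0 56 = true := by decide +kernel

theorem lbf1 : ∀ k ∈ [1, 2, 3], fB cB k 210 = 210 := by decide +kernel

theorem lb1 : LBStep ψ (KK el [1, 2, 3, 5]) (KK el [1, 2, 3]) 56 :=
  lb_stepJ (L := 7) ψ hψ (by decide) (by decide) lbc1 (by decide) lbf1

noncomputable def EO3 : Tb := (.leaf 0xc160402832000815c40188b000417c4008370000074000038)

noncomputable def PO3 : Tb := (.node (.node (.node (.node (.node (.leaf 0x40000000000001800000000000000000000000000000000000000000000000000000000080000000000000000000000000000000000000000000000000000000000000000000000000000000) (.leaf 0x0)) (.node (.leaf 0x0) (.leaf 0x0))) (.node (.node (.leaf 0x0) (.leaf 0x0)) (.leaf 0x0))) (.node (.node (.node (.leaf 0x8000000000000000000000000000000) (.leaf 0x0)) (.node (.leaf 0x0) (.leaf 0x0))) (.node (.node (.leaf 0x0) (.leaf 0x0)) (.leaf 0x0)))) (.node (.node (.node (.node (.leaf 0x6000000000000000000700a000000000000000000000000000000000000000000000000000000000000000) (.leaf 0x0)) (.node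 (.leaf 0x0) (.leaf 0x0))) (.node (.node (.leaf 0x0) (.leaf 0x0)) (.leaf 0x0))) (.node (.node (.node (.leaf 0x0) (.leaf 0x0)) (.node (.leaf 0x0) (.leaf 0x0))) (.node (.node (.leaf 0x0) (.leaf 0x0)) (.leaf 0x0)))))

theorem lbc3 : loop (chkO cB EO3 PO3 26 67108863 [2, 3] 56) 0 8 = true := by decide +kernel

theorem lbf3 : ∀ k ∈ [3], fB cB k 56 = 56 := by decide +kernel

theorem lb3 : LBStep ψ (KK el [2, 3]) (KK el [3]) 8 :=
  lb_stepJ (L := 7) ψ hψ (by decide) (by decide) lbc3 (by decide) lbf3

noncomputable def EO4 : Tb := (.leaf 0xc000001)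

noncomputable def PO4 : Tb := (.node (.node (.node (.node (.node (.leaf 0x200000000) (.leaf 0x0)) (.node (.leaf 0x0) (.leaf 0x0))) (.node (.node (.leaf 0x0) (.leaf 0x0)) (.leaf 0x0))) (.node (.node (.node (.leaf 0x0) (.leaf 0x0)) (.node (.leaf 0x0) (.leaf 0x0))) (.node (.node (.leaf 0x0) (.leaf 0x0)) (.leaf 0x0)))) (.node (.node (.node (.node (.leaf 0x0) (.leaf 0x0)) (.node (.leaf 0x0) (.leaf 0x0))) (.node (.node (.leaf 0x0) (.leaf 0x0)) (.leaf 0x0))) (.node (.node (.node (.leaf 0x0) (.leaf 0x0)) (.node (.leaf 0x0) (.leaf 0x0))) (.node (.node (.leaf 0x0) (.leaf 0x0)) (.leaf 0x0)))))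

theorem lbc4 : loop (chkO cB EO4 PO4 26 67108863 [3] 1) 0 2 = true := by decide +kernel

theorem lbf4 : ∀ k ∈ [], fB cB k 1 = 1 := by decide +kernel

theorem lb4 : LBStep ψ (KK el [3]) (KK el []) 2 :=
  lb_stepJ (L := 7) ψ hψ (by decide) (by decide) lbc4 (by decide) lbf4

end Cfsg.Agent.Lib.Helper19.OrdSuz.LX
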