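import Cfsg.Agent.Lib.Helper19.OrdSuz.QD
import Cfsg.Agent.Lib.Helper19.OrdSuz.Q1C0
import Cfsg.Agent.Lib.Helper19.OrdSuz.Q1C1
import Cfsg.Agent.Lib.Helper19.OrdSuz.Q1C2
import Cfsg.Agent.Lib.Helper19.OrdSuz.Q1C3
import Cfsg.Agent.Lib.Helper19.OrdSuz.Q1C4
import Cfsg.Agent.Lib.Helper19.OrdSuz.Q1C5

/-! Generated file: certificates for the order of a presented group. -/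

set_option autoImplicit false
set_option maxRecDepth 1000000

namespace Cfsg.Agent.Lib.Helper19.OrdSuz.Q1

open Cfsg.Agent.Lib.Helper19.TCS (evn evn_rot evn_rev evn_pair AllS forall_of_allS lift_rels mk_eq_lift cox_swap shapeI prod_rep index_of_equiv orbit_ncard orbit_image ncard_interval fix_of_closure RC)
open Cfsg.Agent.Lib.Helper19.TC2
open Cfsg.Spor Cfsg.Agent.Lib.Helper19.PresSuz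
open Cfsg.Agent.Lib.Helper19.OrdSuz.QD

theorem hsel : ∀ k < cert.LS.length, (sel cert.LS k).1 = k := by decide

theorem lf0 : (∀ p ∈ W0, p ∈ cert.LS) ∧ ev (fun k => elq (jm [0, 1, 2, 3, 4, 5] k)) W0 = 1 :=
  leaf_okJ cert elq [0, 1, 2, 3, 4, 5] hsel [1, 1] [1, 1] W0 rfl (by decide) rfl (evn_pair elq elq_sq 1)

theorem lf1 : (∀ p ∈ W1, p ∈ cert.LS) ∧ ev (fun k => elq (jm [0, 1, 2, 3, 4, 5] k)) W1 = 1 :=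
  leaf_okJ cert elq [0, 1, 2, 3, 4, 5] hsel [4, 1, 4, 1] [4, 1, 4, 1] W1 rfl (by decide) rfl (q_one (cox_one 4 1))

theorem lf2 : (∀ p ∈ W2, p ∈ cert.LS) ∧ ev (fun k => elq (jm [0, 1, 2, 3, 4, 5] k)) W2 = 1 :=
  leaf_okJ cert elq [0, 1, 2, 3, 4, 5] hsel [3, 3] [3, 3] W2 rfl (by decide) rfl (evn_pair elq elq_sq 3)

theorem lf3 : (∀ p ∈ W3, p ∈ cert.LS) ∧ ev (fun k => elq (jm [0, 1, 2, 3, 4, 5] k)) W3 = 1 :=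
  leaf_okJ cert elq [0, 1, 2, 3, 4, 5] hsel [0, 3, 0, 3] [0, 3, 0, 3] W3 rfl (by decide) rfl (q_one (cox_one 0 3))

theorem lf4 : (∀ p ∈ W4, p ∈ cert.LS) ∧ ev (fun k => elq (jm [0, 1, 2, 3, 4, 5] k)) W4 = 1 :=
  leaf_okJ cert elq [0, 1, 2, 3, 4, 5] hsel [5, 3, 5, 3] [5, 3, 5, 3] W4 rfl (by decide) rfl (q_one (cox_one 5 3))

theorem lf5 : (∀ p ∈ W5, p ∈ cert.LS) ∧ ev (fun k => elq (jm [0, 1, 2, 3, 4, 5] k)) W5 = 1 :=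
  leaf_okJ cert elq [0, 1, 2, 3, 4, 5] hsel [0, 0] [0, 0] W5 rfl (by decide) rfl (evn_pair elq elq_sq 0)

theorem lf6 : (∀ p ∈ W6, p ∈ cert.LS) ∧ ev (fun k => elq (jm [0, 1, 2, 3, 4, 5] k)) W6 = 1 :=
  leaf_okJ cert elq [0, 1, 2, 3, 4, 5] hsel [4, 0, 4, 0] [4, 0, 4, 0] W6 rfl (by decide) rfl (q_one (cox_one 4 0))

theorem lf7 : (∀ p ∈ W7, p ∈ cert.LS) ∧ ev (fun k => elq (jm [0, 1, 2, 3, 4, 5] k)) W7 = 1 :=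
  leaf_okJ cert elq [0, 1, 2, 3, 4, 5] hsel [2, 2] [2, 2] W7 rfl (by decide) rfl (evn_pair elq elq_sq 2)

theorem lf8 : (∀ p ∈ W8, p ∈ cert.LS) ∧ ev (fun k => elq (jm [0, 1, 2, 3, 4, 5] k)) W8 = 1 :=
  leaf_okJ cert elq [0, 1, 2, 3, 4, 5] hsel [4, 2, 4, 2] [4, 2, 4, 2] W8 rfl (by decide) rfl (q_one (cox_one 4 2))

theorem lf9 : (∀ p ∈ W9, p ∈ cert.LS) ∧ ev (fun k => elq (jm [0, 1, 2, 3, 4, 5] k)) W9 = 1 :=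
  leaf_okJ cert elq [0, 1, 2, 3, 4, 5] hsel [1, 2, 1, 2, 1, 2] [1, 2, 1, 2, 1, 2] W9 rfl (by decide) rfl (q_one (cox_one 1 2))

theorem lf10 : (∀ p ∈ W10, p ∈ cert.LS) ∧ ev (fun k => elq (jm [0, 1, 2, 3, 4, 5] k)) W10 = 1 :=
  leaf_okJ cert elq [0, 1, 2, 3, 4, 5] hsel [1, 3, 1, 3] [1, 3, 1, 3] W10 rfl (by decide) rfl (q_one (cox_one 1 3))

theorem lf11 : (∀ p ∈ W11, p ∈ cert.LS) ∧ ev (fun k => elq (jm [0, 1, 2, 3, 4, 5] k)) W11 = 1 :=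
  leaf_okJ cert elq [0, 1, 2, 3, 4, 5] hsel [5, 5] [5, 5] W11 rfl (by decide) rfl (evn_pair elq elq_sq 5)

theorem lf12 : (∀ p ∈ W12, p ∈ cert.LS) ∧ ev (fun k => elq (jm [0, 1, 2, 3, 4, 5] k)) W12 = 1 :=
  leaf_okJ cert elq [0, 1, 2, 3, 4, 5] hsel [1, 5, 1, 5, 1, 5] [1, 5, 1, 5, 1, 5] W12 rfl (by decide) rfl (q_one (cox_one 1 5))

theorem lf13 : (∀ p ∈ W13, p ∈ cert.LS) ∧ ev (fun k => elq (jm [0, 1, 2, 3, 4, 5] k)) W13 = 1 :=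
  leaf_okJ cert elq [0, 1, 2, 3, 4, 5] hsel [0, 2, 0, 2] [0, 2, 0, 2] W13 rfl (by decide) rfl (q_one (cox_one 0 2))

theorem lf14 : (∀ p ∈ W14, p ∈ cert.LS) ∧ ev (fun k => elq (jm [0, 1, 2, 3, 4, 5] k)) W14 = 1 :=
  leaf_okJ cert elq [0, 1, 2, 3, 4, 5] hsel [5, 2, 5, 2] [5, 2, 5, 2] W14 rfl (by decide) rfl (q_one (cox_one 5 2))

theorem lf15 : (∀ p ∈ W15, p ∈ cert.LS) ∧ ev (fun k => elq (jm [0, 1, 2, 3, 4, 5] k)) W15 = 1 :=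
  leaf_okJ cert elq [0, 1, 2, 3, 4, 5] hsel [4, 4] [4, 4] W15 rfl (by decide) rfl (evn_pair elq elq_sq 4)

theorem lf16 : (∀ p ∈ W16, p ∈ cert.LS) ∧ ev (fun k => elq (jm [0, 1, 2, 3, 4, 5] k)) W16 = 1 :=
  leaf_okJ cert elq [0, 1, 2, 3, 4, 5] hsel [5, 4, 5, 4] [5, 4, 5, 4] W16 rfl (by decide) rfl (q_one (cox_one 5 4))

theorem lf17 : (∀ p ∈ W17, p ∈ cert.LS) ∧ ev (fun k => elq (jm [0, 1, 2, 3, 4, 5] k)) W17 = 1 :=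
  leaf_okJ cert elq [0, 1, 2, 3, 4, 5] hsel [3, 4, 3, 4, 3, 4] [3, 4, 3, 4, 3, 4] W17 rfl (by decide) rfl (q_one (cox_one 3 4))

theorem lf18 : (∀ p ∈ W18, p ∈ cert.LS) ∧ ev (fun k => elq (jm [0, 1, 2, 3, 4, 5] k)) W18 = 1 :=
  leaf_okJ cert elq [0, 1, 2, 3, 4, 5] hsel [0, 5, 0, 5] [0, 5, 0, 5] W18 rfl (by decide) rfl (q_one (cox_one 0 5))

theorem lf19 : (∀ p ∈ W19, p ∈ cert.LS) ∧ ev (fun k => elq (jm [0, 1, 2, 3, 4, 5] k)) W19 = 1 :=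
  leaf_okJ cert elq [0, 1, 2, 3, 4, 5] hsel [2, 5, 2, 5] [2, 5, 2, 5] W19 rfl (by decide) rfl (q_one (cox_one 2 5))

theorem lf20 : (∀ p ∈ W20, p ∈ cert.LS) ∧ ev (fun k => elq (jm [0, 1, 2, 3, 4, 5] k)) W20 = 1 :=
  leaf_okJ cert elq [0, 1, 2, 3, 4, 5] hsel [4, 5, 4, 5] [4, 5, 4, 5] W20 rfl (by decide) rfl (q_one (cox_one 4 5))

theorem lf21 : (∀ p ∈ W21, p ∈ cert.LS) ∧ ev (fun k => elq (jm [0, 1, 2, 3, 4, 5] k)) W21 = 1 :=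
  leaf_okJ cert elq [0, 1, 2, 3, 4, 5] hsel [1, 4, 1, 4] [1, 4, 1, 4] W21 rfl (by decide) rfl (q_one (cox_one 1 4))

theorem lf22 : (∀ p ∈ W22, p ∈ cert.LS) ∧ ev (fun k => elq (jm [0, 1, 2, 3, 4, 5] k)) W22 = 1 :=
  leaf_okJ cert elq [0, 1, 2, 3, 4, 5] hsel [2, 3, 2, 3, 2, 3, 2, 0, 3] [2, 3, 2, 3, 2, 3, 2, 0, 3] W22 rfl (by decide) rfl (evn_rot elq [0, 3] [2, 3, 2, 3, 2, 3, 2] (q_one xg0_one))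

theorem lf23 : (∀ p ∈ W23, p ∈ cert.LS) ∧ ev (fun k => elq (jm [0, 1, 2, 3, 4, 5] k)) W23 = 1 :=
  leaf_okJ cert elq [0, 1, 2, 3, 4, 5] hsel [0, 4, 0, 4] [0, 4, 0, 4] W23 rfl (by decide) rfl (q_one (cox_one 0 4))

theorem lf24 : (∀ p ∈ W24, p ∈ cert.LS) ∧ ev (fun k => elq (jm [0, 1, 2, 3, 4, 5] k)) W24 = 1 :=
  leaf_okJ cert elq [0, 1, 2, 3, 4, 5] hsel [2, 4, 2, 4] [2, 4, 2, 4] W24 rfl (by decide) rfl (q_one (cox_one 2 4))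

theorem lf25 : (∀ p ∈ W25, p ∈ cert.LS) ∧ ev (fun k => elq (jm [0, 1, 2, 3, 4, 5] k)) W25 = 1 :=
  leaf_okJ cert elq [0, 1, 2, 3, 4, 5] hsel [1, 0, 1, 0, 1, 0, 1, 0, 1, 0] [1, 0, 1, 0, 1, 0, 1, 0, 1, 0] W25 rfl (by decide) rfl (q_one (cox_one 1 0))

theorem lf26 : (∀ p ∈ W26, p ∈ cert.LS) ∧ ev (fun k => elq (jm [0, 1, 2, 3, 4, 5] k)) W26 = 1 :=
  leaf_okJ cert elq [0, 1, 2, 3, 4, 5] hsel [3, 5, 3, 5] [3, 5, 3, 5] W26 rfl (by decide) rfl (q_one (cox_one 3 5))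

theorem lf27 : (∀ p ∈ W27, p ∈ cert.LS) ∧ ev (fun k => elq (jm [0, 1, 2, 3, 4, 5] k)) W27 = 1 :=
  leaf_okJ cert elq [0, 1, 2, 3, 4, 5] hsel [2, 1, 2, 1, 2, 1] [2, 1, 2, 1, 2, 1] W27 rfl (by decide) rfl (q_one (cox_one 2 1))

theorem lf28 : (∀ p ∈ W28, p ∈ cert.LS) ∧ ev (fun k => elq (jm [0, 1, 2, 3, 4, 5] k)) W28 = 1 :=
  leaf_okJ cert elq [0, 1, 2, 3, 4, 5] hsel [5, 1, 5, 1, 5, 1] [5, 1, 5, 1, 5, 1] W28 rfl (by decide) rfl (q_one (cox_one 5 1))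

theorem lf29 : (∀ p ∈ W29, p ∈ cert.LS) ∧ ev (fun k => elq (jm [0, 1, 2, 3, 4, 5] k)) W29 = 1 :=
  leaf_okJ cert elq [0, 1, 2, 3, 4, 5] hsel [3, 1, 3, 1] [3, 1, 3, 1] W29 rfl (by decide) rfl (q_one (cox_one 3 1))

theorem lf30 : (∀ p ∈ W30, p ∈ cert.LS) ∧ ev (fun k => elq (jm [0, 1, 2, 3, 4, 5] k)) W30 = 1 :=
  leaf_okJ cert elq [0, 1, 2, 3, 4, 5] hsel [2, 0, 2, 0] [2, 0, 2, 0] W30 rfl (by decide) rfl (q_one (cox_one 2 0))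

theorem lf31 : (∀ p ∈ W31, p ∈ cert.LS) ∧ ev (fun k => elq (jm [0, 1, 2, 3, 4, 5] k)) W31 = 1 :=
  leaf_okJ cert elq [0, 1, 2, 3, 4, 5] hsel [3, 2, 3, 2, 3, 2, 0, 3, 2] [3, 2, 3, 2, 3, 2, 0, 3, 2] W31 rfl (by decide) rfl (evn_rot elq [0, 3, 2] [3, 2, 3, 2, 3, 2] (q_one xg0_one))

theorem lf32 : (∀ p ∈ W32, p ∈ cert.LS) ∧ ev (fun k => elq (jm [0, 1, 2, 3, 4, 5] k)) W32 = 1 :=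
  leaf_okJ cert elq [0, 1, 2, 3, 4, 5] hsel [4, 3, 4, 3, 4, 3] [4, 3, 4, 3, 4, 3] W32 rfl (by decide) rfl (q_one (cox_one 4 3))

theorem lf33 : (∀ p ∈ W33, p ∈ cert.LS) ∧ ev (fun k => elq (jm [0, 1, 2, 3, 4, 5] k)) W33 = 1 :=
  leaf_okJ cert elq [0, 1, 2, 3, 4, 5] hsel [5, 0, 5, 0] [5, 0, 5, 0] W33 rfl (by decide) rfl (q_one (cox_one 5 0))

theorem lf34 : (∀ p ∈ W34, p ∈ cert.LS) ∧ ev (fun k => elq (jm [0, 1, 2, 3, 4, 5] k)) W34 = 1 :=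
  leaf_okJ cert elq [0, 1, 2, 3, 4, 5] hsel [0, 1, 0, 1, 0, 1, 0, 1, 0, 1] [0, 1, 0, 1, 0, 1, 0, 1, 0, 1] W34 rfl (by decide) rfl (q_one (cox_one 0 1))

theorem lf35 : (∀ p ∈ W35, p ∈ cert.LS) ∧ ev (fun k => elq (jm [0, 1, 2, 3, 4, 5] k)) W35 = 1 :=
  leaf_okJ cert elq [0, 1, 2, 3, 4, 5] hsel [3, 0, 3, 0] [3, 0, 3, 0] W35 rfl (by decide) rfl (q_one (cox_one 3 0))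

theorem lf36 : (∀ p ∈ W36, p ∈ cert.LS) ∧ ev (fun k => elq (jm [0, 1, 2, 3, 4, 5] k)) W36 = 1 :=
  leaf_okJ cert elq [0, 1, 2, 3, 4, 5] hsel [1, 0, 5, 2, 1, 0, 5, 2, 1, 0, 5, 2, 1, 0, 5, 2, 1, 0, 5, 2] [1, 0, 5, 2, 1, 0, 5, 2, 1, 0, 5, 2, 1, 0, 5, 2, 1, 0, 5, 2] W36 rfl (by decide) rfl (evn_rot elq [5, 2] [1, 0, 5, 2, 1, 0, 5, 2, 1, 0, 5, 2, 1, 0, 5, 2, 1, 0] (evn_rev elq elq_sq _ (q_one xg2_one)))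

theorem lf37 : (∀ p ∈ W37, p ∈ cert.LS) ∧ ev (fun k => elq (jm [0, 1, 2, 3, 4, 5] k)) W37 = 1 :=
  leaf_okJ cert elq [0, 1, 2, 3, 4, 5] hsel [5, 0, 1, 2, 5, 0, 1, 2, 5, 0, 1, 2, 5, 0, 1, 2, 5, 0, 1, 2] [5, 0, 1, 2, 5, 0, 1, 2, 5, 0, 1, 2, 5, 0, 1, 2, 5, 0, 1, 2] W37 rfl (by decide) rfl (evn_rot elq [0, 1, 2] [5, 0, 1, 2, 5, 0, 1, 2, 5, 0, 1, 2, 5, 0, 1, 2, 5] (q_one xg2_one))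

theorem lf38 : (∀ p ∈ W38, p ∈ cert.LS) ∧ ev (fun k => elq (jm [0, 1, 2, 3, 4, 5] k)) W38 = 1 :=
  leaf_okJ cert elq [0, 1, 2, 3, 4, 5] hsel [5, 2, 1, 0, 5, 2, 1, 0, 5, 2, 1, 0, 5, 2, 1, 0, 5, 2, 1, 0] [5, 2, 1, 0, 5, 2, 1, 0, 5, 2, 1, 0, 5, 2, 1, 0, 5, 2, 1, 0] W38 rfl (by decide) rfl (evn_rot elq [] [5, 2, 1, 0, 5, 2, 1, 0, 5, 2, 1, 0, 5, 2, 1, 0, 5, 2, 1, 0] (evn_rev elq elq_sq _ (q_one xg2_one)))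

theorem lf39 : (∀ p ∈ W39, p ∈ cert.LS) ∧ ev (fun k => elq (jm [0, 1, 2, 3, 4, 5] k)) W39 = 1 :=
  leaf_okJ cert elq [0, 1, 2, 3, 4, 5] hsel [2, 5, 0, 1, 2, 5, 0, 1, 2, 5, 0, 1, 2, 5, 0, 1, 2, 5, 0, 1] [2, 5, 0, 1, 2, 5, 0, 1, 2, 5, 0, 1, 2, 5, 0, 1, 2, 5, 0, 1] W39 rfl (by decide) rfl (evn_rot elq [0, 1] [2, 5, 0, 1, 2, 5, 0, 1, 2, 5, 0, 1, 2, 5, 0, 1, 2, 5] (q_one xg2_one))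

theorem lf40 : (∀ p ∈ W40, p ∈ cert.LS) ∧ ev (fun k => elq (jm [0, 1, 2, 3, 4, 5] k)) W40 = 1 :=
  leaf_okJ cert elq [0, 1, 2, 3, 4, 5] hsel [0, 5, 2, 1, 0, 5, 2, 1, 0, 5, 2, 1, 0, 5, 2, 1, 0, 5, 2, 1] [0, 5, 2, 1, 0, 5, 2, 1, 0, 5, 2, 1, 0, 5, 2, 1, 0, 5, 2, 1] W40 rfl (by decide) rfl (evn_rot elq [5, 2, 1] [0, 5, 2, 1, 0, 5, 2, 1, 0, 5, 2, 1, 0, 5, 2, 1, 0] (evn_rev elq elq_sq _ (q_one xg2_one)))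

theorem lf41 : (∀ p ∈ W41, p ∈ cert.LS) ∧ ev (fun k => elq (jm [0, 1, 2, 3, 4, 5] k)) W41 = 1 :=
  leaf_okJ cert elq [0, 1, 2, 3, 4, 5] hsel [0, 1, 2, 5, 0, 1, 2, 5, 0, 1, 2, 5, 0, 1, 2, 5, 0, 1, 2, 5] [0, 1, 2, 5, 0, 1, 2, 5, 0, 1, 2, 5, 0, 1, 2, 5, 0, 1, 2, 5] W41 rfl (by decide) rfl (evn_rot elq [] [0, 1, 2, 5, 0, 1, 2, 5, 0, 1, 2, 5, 0, 1, 2, 5, 0, 1, 2, 5] (q_one xg2_one))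

theorem lf42 : (∀ p ∈ W42, p ∈ cert.LS) ∧ ev (fun k => elq (jm [0, 1, 2, 3, 4, 5] k)) W42 = 1 :=
  leaf_okJ cert elq [0, 1, 2, 3, 4, 5] hsel [1, 2, 5, 0, 1, 2, 5, 0, 1, 2, 5, 0, 1, 2, 5, 0, 1, 2, 5, 0] [1, 2, 5, 0, 1, 2, 5, 0, 1, 2, 5, 0, 1, 2, 5, 0, 1, 2, 5, 0] W42 rfl (by decide) rfl (evn_rot elq [0] [1, 2, 5, 0, 1, 2, 5, 0, 1, 2, 5, 0, 1, 2, 5, 0, 1, 2, 5] (q_one xg2_one))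

theorem lf43 : (∀ p ∈ W43, p ∈ cert.LS) ∧ ev (fun k => elq (jm [0, 1, 2, 3, 4, 5] k)) W43 = 1 :=
  leaf_okJ cert elq [0, 1, 2, 3, 4, 5] hsel [2, 1, 0, 5, 2, 1, 0, 5, 2, 1, 0, 5, 2, 1, 0, 5, 2, 1, 0, 5] [2, 1, 0, 5, 2, 1, 0, 5, 2, 1, 0, 5, 2, 1, 0, 5, 2, 1, 0, 5] W43 rfl (by decide) rfl (evn_rot elq [5] [2, 1, 0, 5, 2, 1, 0, 5, 2, 1, 0, 5, 2, 1, 0, 5, 2, 1, 0] (evn_rev elq elq_sq _ (q_one xg2_one)))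

theorem lf44 : (∀ p ∈ W44, p ∈ cert.LS) ∧ ev (fun k => elq (jm [0, 1, 2, 3, 4, 5] k)) W44 = 1 :=
  leaf_okJ cert elq [0, 1, 2, 3, 4, 5] hsel [3, 2, 3, 2, 3, 2, 3, 2, 0] [3, 2, 3, 2, 3, 2, 3, 2, 0] W44 rfl (by decide) rfl (evn_rot elq [0] [3, 2, 3, 2, 3, 2, 3, 2] (q_one xg0_one))

theorem lf45 : (∀ p ∈ W45, p ∈ cert.LS) ∧ ev (fun k => elq (jm [0, 1, 2, 3, 4, 5] k)) W45 = 1 :=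
  leaf_okJ cert elq [0, 1, 2, 3, 4, 5] hsel [5, 1, 2, 3, 2, 3, 5, 1, 2, 3, 2, 3, 5, 1, 2, 3, 2, 3, 5, 1, 2, 3, 2, 3, 5, 1, 2, 3, 2, 3, 5, 1, 2, 3, 2, 3, 5, 1, 2, 3, 2, 3] [5, 1, 2, 3, 2, 3, 5, 1, 2, 3, 2, 3, 5, 1, 2, 3, 2, 3, 5, 1, 2, 3, 2, 3, 5, 1, 2, 3, 2, 3, 5, 1, 2, 3, 2, 3, 5, 1, 2, 3, 2, 3] W45 rfl (by decide) rfl (evn_rot elq [1, 2, 3, 2, 3] [5, 1, 2, 3, 2, 3, 5, 1, 2, 3, 2, 3, 5, 1, 2, 3, 2, 3, 5, 1, 2, 3, 2, 3, 5, 1, 2, 3, 2, 3, 5, 1, 2, 3, 2, 3, 5] zq_one)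

theorem lf46 : (∀ p ∈ W46, p ∈ cert.LS) ∧ ev (fun k => elq (jm [0, 1, 2, 3, 4, 5] k)) W46 = 1 :=
  leaf_okJ cert elq [0, 1, 2, 3, 4, 5] hsel [2, 3, 2, 3, 0, 2, 3, 2, 3] [2, 3, 2, 3, 0, 2, 3, 2, 3] W46 rfl (by decide) rfl (evn_rot elq [2, 3, 2, 3] [2, 3, 2, 3, 0] (evn_rev elq elq_sq _ (q_one xg0_one)))

theorem lf47 : (∀ p ∈ W47, p ∈ cert.LS) ∧ ev (fun k => elq (jm [0, 1, 2, 3, 4, 5] k)) W47 = 1 :=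
  leaf_okJ cert elq [0, 1, 2, 3, 4, 5] hsel [1, 5, 3, 2, 3, 2, 1, 5, 3, 2, 3, 2, 1, 5, 3, 2, 3, 2, 1, 5, 3, 2, 3, 2, 1, 5, 3, 2, 3, 2, 1, 5, 3, 2, 3, 2, 1, 5, 3, 2, 3, 2] [1, 5, 3, 2, 3, 2, 1, 5, 3, 2, 3, 2, 1, 5, 3, 2, 3, 2, 1, 5, 3, 2, 3, 2, 1, 5, 3, 2, 3, 2, 1, 5, 3, 2, 3, 2, 1, 5, 3, 2, 3, 2] W47 rfl (by decide) rfl (evn_rot elq [5, 3, 2, 3, 2] [1, 5, 3, 2, 3, 2, 1, 5, 3, 2, 3, 2, 1, 5, 3, 2, 3, 2, 1, 5, 3, 2, 3, 2, 1, 5, 3, 2, 3, 2, 1, 5, 3, 2, 3, 2, 1] (evn_rev elq elq_sq _ zq_one))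

theorem lf48 : (∀ p ∈ W48, p ∈ cert.LS) ∧ ev (fun k => elq (jm [0, 1, 2, 3, 4, 5] k)) W48 = 1 :=
  leaf_okJ cert elq [0, 1, 2, 3, 4, 5] hsel [2, 3, 2, 3, 2, 0, 3, 2, 3] [2, 3, 2, 3, 2, 0, 3, 2, 3] W48 rfl (by decide) rfl (evn_rot elq [0, 3, 2, 3] [2, 3, 2, 3, 2] (q_one xg0_one))

theorem lf49 : (∀ p ∈ W49, p ∈ cert.LS) ∧ ev (fun k => elq (jm [0, 1, 2, 3, 4, 5] k)) W49 = 1 :=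
  leaf_okJ cert elq [0, 1, 2, 3, 4, 5] hsel [4, 3, 2, 3, 2, 1, 3, 2, 3, 2, 1, 3, 2, 3, 2, 1, 3, 2, 3, 2, 1, 3, 2, 3, 2, 1, 4, 3, 2, 3, 2, 1, 3, 2, 3, 2, 1, 3, 2, 3, 2, 1, 3, 2, 3, 2, 1, 3, 2, 3, 2, 1, 4, 3, 2, 3, 2, 1, 3, 2, 3, 2, 1, 3, 2, 3, 2, 1, 3, 2, 3, 2, 1, 3, 2, 3, 2, 1] [4, 3, 2, 3, 2, 1, 3, 2, 3, 2, 1, 3, 2, 3, 2, 1, 3, 2, 3, 2, 1, 3, 2, 3, 2, 1, 4, 3, 2, 3, 2, 1, 3, 2, 3, 2, 1, 3, 2, 3, 2, 1, 3, 2, 3, 2, 1, 3, 2, 3, 2, 1, 4, 3, 2, 3, 2, 1, 3, 2, 3, 2, 1, 3, 2, 3, 2, 1, 3, 2, 3, 2, 1, 3, 2, 3, 2, 1] W49 rfl (by decide) rfl (evn_rot elq [] [4, 3, 2, 3, 2, 1, 3, 2, 3, 2, 1, 3, 2, 3, 2, 1, 3, 2, 3, 2, 1, 3, 2, 3, 2, 1, 4, 3, 2, 3, 2, 1, 3, 2, 3, 2, 1, 3, 2, 3, 2, 1, 3, 2, 3, 2, 1, 3, 2, 3, 2, 1, 4, 3, 2, 3, 2, 1,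 3, 2, 3, 2, 1, 3, 2, 3, 2, 1, 3, 2, 3, 2, 1, 3, 2, 3, 2, 1] (evn_rev elq elq_sq _ (q_one xg4_one)))

theorem lf50 : (∀ p ∈ W50, p ∈ cert.LS) ∧ ev (fun k => elq (jm [0, 1, 2, 3, 4, 5] k)) W50 = 1 :=
  leaf_okJ cert elq [0, 1, 2, 3, 4, 5] hsel [3, 0, 2, 3, 2, 3, 2, 3, 2] [3, 0, 2, 3, 2, 3, 2, 3, 2] W50 rfl (by decide) rfl (evn_rot elq [2, 3, 2, 3, 2, 3, 2] [3, 0] (evn_rev elq elq_sq _ (q_one xg0_one)))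

theorem lf51 : (∀ p ∈ W51, p ∈ cert.LS) ∧ ev (fun k => elq (jm [0, 1, 2, 3, 4, 5] k)) W51 = 1 :=
  leaf_okJ cert elq [0, 1, 2, 3, 4, 5] hsel [2, 3, 2, 3, 2, 3, 2, 3, 0] [2, 3, 2, 3, 2, 3, 2, 3, 0] W51 rfl (by decide) rfl (evn_rot elq [] [2, 3, 2, 3, 2, 3, 2, 3, 0] (evn_rev elq elq_sq _ (q_one xg0_one)))

theorem lf52 : (∀ p ∈ W52, p ∈ cert.LS) ∧ ev (fun k => elq (jm [0, 1, 2, 3, 4, 5] k)) W52 = 1 :=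
  leaf_okJ cert elq [0, 1, 2, 3, 4, 5] hsel [2, 0, 3, 2, 3, 2, 3, 2, 3] [2, 0, 3, 2, 3, 2, 3, 2, 3] W52 rfl (by decide) rfl (evn_rot elq [0, 3, 2, 3, 2, 3, 2, 3] [2] (q_one xg0_one))

theorem lf53 : (∀ p ∈ W53, p ∈ cert.LS) ∧ ev (fun k => elq (jm [0, 1, 2, 3, 4, 5] k)) W53 = 1 :=
  leaf_okJ cert elq [0, 1, 2, 3, 4, 5] hsel [3, 2, 3, 2, 3, 2, 3, 0, 2] [3, 2, 3, 2, 3, 2, 3, 0, 2] W53 rfl (by decide) rfl (evn_rot elq [2] [3, 2, 3, 2, 3, 2, 3, 0] (evn_rev elq elq_sq _ (q_one xg0_one)))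

theorem lf54 : (∀ p ∈ W54, p ∈ cert.LS) ∧ ev (fun k => elq (jm [0, 1, 2, 3, 4, 5] k)) W54 = 1 :=
  leaf_okJ cert elq [0, 1, 2, 3, 4, 5] hsel [0, 3, 2, 3, 2, 3, 2, 3, 2] [0, 3, 2, 3, 2, 3, 2, 3, 2] W54 rfl (by decide) rfl (evn_rot elq [] [0, 3, 2, 3, 2, 3, 2, 3, 2] (q_one xg0_one))

theorem lf55 : (∀ p ∈ W55, p ∈ cert.LS) ∧ ev (fun k => elq (jm [0, 1, 2, 3, 4, 5] k)) W55 = 1 :=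
  leaf_okJ cert elq [0, 1, 2, 3, 4, 5] hsel [3, 1, 2, 3, 2, 3, 1, 2, 3, 2, 3, 1, 2, 3, 2, 3, 1, 2, 3, 2, 3, 4, 1, 2, 3, 2, 3, 1, 2, 3, 2, 3, 1, 2, 3, 2, 3, 1, 2, 3, 2, 3, 1, 2, 3, 2, 3, 4, 1, 2, 3, 2, 3, 1, 2, 3, 2, 3, 1, 2, 3, 2, 3, 1, 2, 3, 2, 3, 1, 2, 3, 2, 3, 4, 1, 2, 3, 2] [3, 1, 2, 3, 2, 3, 1, 2, 3, 2, 3, 1, 2, 3, 2, 3, 1, 2, 3, 2, 3, 4, 1, 2, 3, 2, 3, 1, 2, 3, 2, 3, 1, 2, 3, 2, 3, 1, 2, 3, 2, 3, 1, 2, 3, 2, 3, 4, 1, 2, 3, 2, 3, 1, 2, 3, 2, 3, 1, 2, 3, 2, 3, 1, 2, 3, 2, 3, 1, 2, 3, 2, 3, 4, 1, 2, 3, 2] W55 rfl (by decide) rfl (evn_rot elq [1, 2, 3, 2] [3, 1, 2, 3, 2, 3, 1, 2, 3, 2, 3, 1, 2, 3, 2, 3, 1, 2, 3, 2, 3, 4, 1, 2, 3, 2, 3, 1, 2, 3, 2, 3, 1, 2, 3, 2, 3, 1, 2, 3, 2, 3, 1, 2, 3, 2, 3, 4, 1, 2, 3, 2, 3, 1,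 2, 3, 2, 3, 1, 2, 3, 2, 3, 1, 2, 3, 2, 3, 1, 2, 3, 2, 3, 4] (q_one xg4_one))

theorem lf56 : (∀ p ∈ W56, p ∈ cert.LS) ∧ ev (fun k => elq (jm [0, 1, 2, 3, 4, 5] k)) W56 = 1 :=
  leaf_okJ cert elq [0, 1, 2, 3, 4, 5] hsel [2, 3, 2, 1, 3, 2, 3, 2, 1, 3, 2, 3, 2, 1, 4, 3, 2, 3, 2, 1, 3, 2, 3, 2, 1, 3, 2, 3, 2, 1, 3, 2, 3, 2, 1, 3, 2, 3, 2, 1, 4, 3, 2, 3, 2, 1, 3, 2, 3, 2, 1, 3, 2, 3, 2, 1, 3, 2, 3, 2, 1, 3, 2, 3, 2, 1, 4, 3, 2, 3, 2, 1, 3, 2, 3, 2, 1, 3] [2, 3, 2, 1, 3, 2, 3, 2, 1, 3, 2, 3, 2, 1, 4, 3, 2, 3, 2, 1, 3, 2, 3, 2, 1, 3, 2, 3, 2, 1, 3, 2, 3, 2, 1, 3, 2, 3, 2, 1, 4, 3, 2, 3, 2, 1, 3, 2, 3, 2, 1, 3, 2, 3, 2, 1, 3, 2, 3, 2, 1, 3, 2, 3, 2, 1, 4, 3, 2, 3, 2, 1, 3, 2, 3, 2, 1, 3] W56 rfl (by decide) rfl (evn_rot elq [4,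 3, 2, 3, 2, 1, 3, 2, 3, 2, 1, 3] [2, 3, 2, 1, 3, 2, 3, 2, 1, 3, 2, 3, 2, 1, 4, 3, 2, 3, 2, 1, 3, 2, 3, 2, 1, 3, 2, 3, 2, 1, 3, 2, 3, 2, 1, 3, 2, 3, 2, 1, 4, 3, 2, 3, 2, 1, 3, 2, 3, 2, 1, 3, 2, 3, 2, 1, 3, 2, 3, 2, 1, 3, 2, 3, 2, 1] (evn_rev elq elq_sq _ (q_one xg4_one)))

theorem lf57 : (∀ p ∈ W57, p ∈ cert.LS) ∧ ev (fun k => elq (jm [0, 1, 2, 3, 4, 5] k)) W57 = 1 :=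
  leaf_okJ cert elq [0, 1, 2, 3, 4, 5] hsel [1, 2, 3, 2, 3, 1, 2, 3, 2, 3, 1, 2, 3, 2, 3, 4, 1, 2, 3, 2, 3, 1, 2, 3, 2, 3, 1, 2, 3, 2, 3, 1, 2, 3, 2, 3, 1, 2, 3, 2, 3, 4, 1, 2, 3, 2, 3, 1, 2, 3, 2, 3, 1, 2, 3, 2, 3, 1, 2, 3, 2, 3, 1, 2, 3, 2, 3, 4, 1, 2, 3, 2, 3, 1, 2, 3, 2, 3] [1, 2, 3, 2, 3, 1, 2, 3, 2, 3, 1, 2, 3, 2, 3, 4, 1, 2, 3, 2, 3, 1, 2, 3, 2, 3, 1, 2, 3, 2, 3, 1, 2, 3, 2, 3, 1, 2, 3, 2, 3, 4, 1, 2, 3, 2, 3, 1, 2, 3, 2, 3, 1, 2, 3, 2, 3, 1, 2, 3, 2, 3, 1, 2, 3, 2, 3, 4, 1, 2, 3, 2, 3, 1, 2, 3, 2, 3] W57 rfl (by decide) rfl (evn_rot elq [1, 2, 3, 2, 3, 1, 2, 3, 2, 3] [1, 2, 3, 2, 3, 1, 2, 3, 2, 3, 1, 2, 3, 2, 3, 4, 1, 2, 3, 2, 3, 1, 2, 3, 2, 3, 1, 2, 3, 2, 3, 1, 2, 3, 2, 3, 1, 2, 3, 2, 3, 4, 1, 2, 3, 2, 3, 1,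 2, 3, 2, 3, 1, 2, 3, 2, 3, 1, 2, 3, 2, 3, 1, 2, 3, 2, 3, 4] (q_one xg4_one))

theorem lf58 : (∀ p ∈ W58, p ∈ cert.LS) ∧ ev (fun k => elq (jm [0, 1, 2, 3, 4, 5] k)) W58 = 1 :=
  leaf_okJ cert elq [0, 1, 2, 3, 4, 5] hsel [3, 2, 3, 2, 3, 0, 2, 3, 2] [3, 2, 3, 2, 3, 0, 2, 3, 2] W58 rfl (by decide) rfl (evn_rot elq [2, 3, 2] [3, 2, 3, 2, 3, 0] (evn_rev elq elq_sq _ (q_one xg0_one)))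

theorem lf59 : (∀ p ∈ W59, p ∈ cert.LS) ∧ ev (fun k => elq (jm [0, 1, 2, 3, 4, 5] k)) W59 = 1 :=
  leaf_okJ cert elq [0, 1, 2, 3, 4, 5] hsel [2, 1, 4, 3, 2, 3, 2, 1, 3, 2, 3, 2, 1, 3, 2, 3, 2, 1, 3, 2, 3, 2, 1, 3, 2, 3, 2, 1, 4, 3, 2, 3, 2, 1, 3, 2, 3, 2, 1, 3, 2, 3, 2, 1, 3, 2, 3, 2, 1, 3, 2, 3, 2, 1, 4, 3, 2, 3, 2, 1, 3, 2, 3, 2, 1, 3, 2, 3, 2, 1, 3, 2, 3, 2, 1, 3, 2, 3] [2, 1, 4, 3, 2, 3, 2, 1, 3, 2, 3, 2, 1, 3, 2, 3, 2, 1, 3, 2, 3, 2, 1, 3, 2, 3, 2, 1, 4, 3, 2, 3, 2, 1, 3, 2, 3, 2, 1, 3, 2, 3, 2, 1, 3, 2, 3, 2, 1, 3, 2, 3, 2, 1, 4, 3, 2, 3, 2, 1, 3, 2, 3, 2, 1, 3, 2, 3, 2, 1, 3, 2, 3, 2, 1, 3, 2, 3] W59 rfl (by decide) rfl (evn_rot elq [4, 3, 2, 3, 2, 1, 3, 2, 3, 2, 1, 3, 2, 3, 2, 1, 3, 2, 3, 2, 1, 3, 2, 3] [2, 1,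 4, 3, 2, 3, 2, 1, 3, 2, 3, 2, 1, 3, 2, 3, 2, 1, 3, 2, 3, 2, 1, 3, 2, 3, 2, 1, 4, 3, 2, 3, 2, 1, 3, 2, 3, 2, 1, 3, 2, 3, 2, 1, 3, 2, 3, 2, 1, 3, 2, 3, 2, 1] (evn_rev elq elq_sq _ (q_one xg4_one)))

theorem lf60 : (∀ p ∈ W60, p ∈ cert.LS) ∧ ev (fun k => elq (jm [0, 1, 2, 3, 4, 5] k)) W60 = 1 :=
  leaf_okJ cert elq [0, 1, 2, 3, 4, 5] hsel [2, 1, 3, 2, 3, 2, 1, 3, 2, 3, 2, 1, 4, 3, 2, 3, 2, 1, 3, 2, 3, 2, 1, 3, 2, 3, 2, 1, 3, 2, 3, 2, 1, 3, 2, 3, 2, 1, 4, 3, 2, 3, 2, 1, 3, 2, 3, 2, 1, 3, 2, 3, 2, 1, 3, 2, 3, 2, 1, 3, 2, 3, 2, 1, 4, 3, 2, 3, 2, 1, 3, 2, 3, 2, 1, 3, 2, 3] [2, 1, 3, 2, 3, 2, 1, 3, 2, 3, 2, 1, 4, 3, 2, 3, 2, 1, 3, 2, 3, 2, 1, 3, 2, 3, 2, 1, 3, 2, 3, 2, 1, 3, 2, 3, 2, 1, 4, 3, 2, 3, 2, 1, 3, 2, 3, 2, 1, 3, 2,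 3, 2, 1, 3, 2, 3, 2, 1, 3, 2, 3, 2, 1, 4, 3, 2, 3, 2, 1, 3, 2, 3, 2, 1, 3, 2, 3] W60 rfl (by decide) rfl (evn_rot elq [4, 3, 2, 3, 2, 1, 3, 2, 3, 2, 1, 3, 2, 3] [2, 1, 3, 2, 3, 2, 1, 3, 2, 3, 2, 1, 4, 3, 2, 3, 2, 1, 3, 2, 3, 2, 1, 3, 2, 3, 2, 1, 3, 2, 3, 2, 1, 3, 2, 3, 2, 1, 4, 3, 2, 3, 2, 1, 3, 2, 3, 2, 1, 3, 2, 3, 2, 1, 3, 2, 3, 2, 1, 3, 2, 3, 2, 1] (evn_rev elq elq_sq _ (q_one xg4_one)))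

theorem lf61 : (∀ p ∈ W61, p ∈ cert.LS) ∧ ev (fun k => elq (jm [0, 1, 2, 3, 4, 5] k)) W61 = 1 :=
  leaf_okJ cert elq [0, 1, 2, 3, 4, 5] hsel [1, 2, 3, 2, 3, 1, 2, 3, 2, 3, 1, 2, 3, 2, 3, 1, 2, 3, 2, 3, 1, 2, 3, 2, 3, 4, 1, 2, 3, 2, 3, 1, 2, 3, 2, 3, 1, 2, 3, 2, 3, 1, 2, 3, 2, 3, 1, 2, 3, 2, 3, 4, 1, 2, 3, 2, 3, 1, 2, 3, 2, 3, 1, 2, 3, 2, 3, 1, 2, 3, 2, 3, 1, 2, 3, 2, 3, 4] [1, 2, 3, 2, 3, 1, 2, 3, 2, 3, 1, 2, 3, 2, 3, 1, 2, 3, 2, 3, 1, 2, 3, 2, 3, 4, 1, 2, 3, 2, 3, 1, 2, 3, 2, 3, 1, 2, 3, 2, 3, 1, 2, 3, 2, 3, 1, 2, 3, 2, 3, 4, 1, 2, 3, 2, 3, 1, 2, 3, 2, 3, 1, 2, 3, 2, 3, 1, 2, 3, 2, 3, 1, 2, 3, 2, 3, 4] W61 rfl (by decide) rfl (evn_rot elq [] [1, 2, 3, 2, 3, 1, 2, 3, 2, 3, 1, 2, 3, 2, 3, 1, 2, 3, 2, 3, 1, 2, 3, 2, 3,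 4, 1, 2, 3, 2, 3, 1, 2, 3, 2, 3, 1, 2, 3, 2, 3, 1, 2, 3, 2, 3, 1, 2, 3, 2, 3, 4, 1, 2, 3, 2, 3, 1, 2, 3, 2, 3, 1, 2, 3, 2, 3, 1, 2, 3, 2, 3, 1, 2, 3, 2, 3, 4] (q_one xg4_one))

theorem lf62 : (∀ p ∈ W62, p ∈ cert.LS) ∧ ev (fun k => elq (jm [0, 1, 2, 3, 4, 5] k)) W62 = 1 :=
  leaf_okJ cert elq [0, 1, 2, 3, 4, 5] hsel [3, 2, 1, 4, 3, 2, 3, 2, 1, 3, 2, 3, 2, 1, 3, 2, 3, 2, 1, 3, 2, 3, 2, 1, 3, 2, 3, 2, 1, 4, 3, 2, 3, 2, 1, 3, 2, 3, 2, 1, 3, 2, 3, 2, 1, 3, 2, 3, 2, 1, 3, 2, 3, 2, 1, 4, 3, 2, 3, 2, 1, 3, 2, 3, 2, 1, 3, 2, 3, 2, 1, 3, 2, 3, 2, 1, 3, 2] [3, 2, 1, 4, 3, 2, 3, 2, 1, 3, 2, 3, 2, 1, 3, 2, 3, 2, 1, 3, 2, 3, 2, 1, 3, 2, 3, 2, 1, 4, 3, 2, 3, 2, 1, 3, 2, 3, 2, 1, 3, 2, 3, 2, 1, 3, 2, 3, 2, 1, 3, 2, 3, 2, 1, 4, 3, 2,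 3, 2, 1, 3, 2, 3, 2, 1, 3, 2, 3, 2, 1, 3, 2, 3, 2, 1, 3, 2] W62 rfl (by decide) rfl (evn_rot elq [4, 3, 2, 3, 2, 1, 3, 2, 3, 2, 1, 3, 2, 3, 2, 1, 3, 2, 3, 2, 1, 3, 2] [3, 2, 1, 4, 3, 2, 3, 2, 1, 3, 2, 3, 2, 1, 3, 2, 3, 2, 1, 3, 2, 3, 2, 1, 3, 2, 3, 2, 1, 4, 3, 2, 3, 2, 1, 3, 2, 3, 2, 1, 3, 2, 3, 2, 1, 3, 2, 3, 2, 1, 3, 2, 3, 2, 1] (evn_rev elq elq_sq _ (q_one xg4_one)))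

theorem lf63 : (∀ p ∈ W63, p ∈ cert.LS) ∧ ev (fun k => elq (jm [0, 1, 2, 3, 4, 5] k)) W63 = 1 :=
  leaf_okJ cert elq [0, 1, 2, 3, 4, 5] hsel [0, 2, 3, 2, 3, 2, 3, 2, 3] [0, 2, 3, 2, 3, 2, 3, 2, 3] W63 rfl (by decide) rfl (evn_rot elq [2, 3, 2, 3, 2, 3, 2, 3] [0] (evn_rev elq elq_sq _ (q_one xg0_one)))

theorem lf64 : (∀ p ∈ W64, p ∈ cert.LS) ∧ ev (fun k => elq (jm [0, 1, 2, 3, 4, 5] k)) W64 = 1 :=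
  leaf_okJ cert elq [0, 1, 2, 3, 4, 5] hsel [2, 1, 5, 3, 2, 3, 2, 1, 5, 3, 2, 3, 2, 1, 5, 3, 2, 3, 2, 1, 5, 3, 2, 3, 2, 1, 5, 3, 2, 3, 2, 1, 5, 3, 2, 3, 2, 1, 5, 3, 2, 3] [2, 1, 5, 3, 2, 3, 2, 1, 5, 3, 2, 3, 2, 1, 5, 3, 2, 3, 2, 1, 5, 3, 2, 3, 2, 1, 5, 3, 2, 3, 2, 1, 5, 3, 2, 3, 2, 1, 5, 3, 2, 3] W64 rfl (by decide) rfl (evn_rot elq [5, 3, 2, 3] [2, 1, 5, 3, 2, 3, 2, 1, 5, 3, 2, 3, 2, 1, 5, 3, 2, 3, 2, 1, 5, 3, 2, 3, 2, 1, 5, 3, 2, 3, 2, 1, 5, 3, 2, 3, 2, 1] (evn_rev elq elq_sq _ zq_one))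

theorem lf65 : (∀ p ∈ W65, p ∈ cert.LS) ∧ ev (fun k => elq (jm [0, 1, 2, 3, 4, 5] k)) W65 = 1 :=
  leaf_okJ cert elq [0, 1, 2, 3, 4, 5] hsel [2, 3, 2, 3, 5, 1, 2, 3, 2, 3, 5, 1, 2, 3, 2, 3, 5, 1, 2, 3, 2, 3, 5, 1, 2, 3, 2, 3, 5, 1, 2, 3, 2, 3, 5, 1, 2, 3, 2, 3, 5, 1] [2, 3, 2, 3, 5, 1, 2, 3, 2, 3, 5, 1, 2, 3, 2, 3, 5, 1, 2, 3, 2, 3, 5, 1, 2, 3, 2, 3, 5, 1, 2, 3, 2, 3, 5, 1, 2, 3, 2, 3, 5, 1] W65 rfl (by decide) rfl (evn_rot elq [1] [2, 3, 2, 3, 5, 1, 2, 3, 2, 3, 5, 1, 2, 3, 2, 3, 5, 1, 2, 3, 2, 3, 5, 1, 2, 3, 2, 3, 5, 1, 2, 3, 2, 3, 5, 1, 2, 3, 2, 3, 5] zq_one)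

theorem tree_ok : cert.tree.All (fun W => (∀ p ∈ W, p ∈ cert.LS) ∧ ev (fun k => elq (jm [0, 1, 2, 3, 4, 5] k)) W = 1) :=
  ⟨⟨⟨⟨⟨⟨⟨lf0, lf64⟩, lf32⟩, ⟨lf16, lf48⟩⟩, ⟨⟨lf8, lf40⟩, ⟨lf24, lf56⟩⟩⟩, ⟨⟨⟨lf4, lf36⟩, ⟨lf20, lf52⟩⟩, ⟨⟨lf12, lf44⟩, ⟨lf28, lf60⟩⟩⟩⟩, ⟨⟨⟨⟨lf2, lf34⟩, ⟨lf18, lf50⟩⟩, ⟨⟨lf10, lf42⟩, ⟨lf26, lf58⟩⟩⟩, ⟨⟨⟨lf6, lf38⟩, ⟨lf22, lf54⟩⟩, ⟨⟨lf14, lf46⟩, ⟨lf30, lf62⟩⟩⟩⟩⟩, ⟨⟨⟨⟨⟨⟨lf1, lf65⟩, lf33⟩, ⟨lf17, lf49⟩⟩, ⟨⟨lf9, lf41⟩, ⟨lf25, lf57⟩⟩⟩, ⟨⟨⟨lf5, lf37⟩, ⟨lf21, lf53⟩⟩, ⟨⟨lf13, lf45⟩, ⟨lf29, lf61⟩⟩⟩⟩, ⟨⟨⟨⟨lf3, lf35⟩, ⟨lf19, lf51⟩⟩, ⟨⟨lf11, lf43⟩, ⟨lf27, lf59⟩⟩⟩, ⟨⟨⟨lf7, lf39⟩, ⟨lf23, lf55⟩⟩, ⟨⟨lf15, lf47⟩, ⟨lf31, lf63⟩⟩⟩⟩⟩⟩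

theorem subs_ok : AllS (fun XZ : List Letter × List Letter => (∀ p ∈ XZ.1, p ∈ cert.LS) ∧ (∀ p ∈ XZ.2, p ∈ cert.LS) ∧
    ev (fun k => elq (jm [0, 1, 2, 3, 4, 5] k)) XZ.1 * ev (fun k => elq (jm [0, 1, 2, 3, 4, 5] k)) XZ.2 ∈ KK elq [0, 2, 4, 5]) cert.subs :=
  ⟨sub_ok cert _ (KK elq [0, 2, 4, 5]) hsel [] [0] _ _ rfl rfl (by decide) (sub_memJ elq [0, 1, 2, 3, 4, 5] [0, 2, 4, 5] 0 (by decide)), sub_ok cert _ (KK elq [0, 2, 4, 5]) hsel [] [2] _ _ rfl rfl (by decide) (sub_memJ elq [0, 1, 2, 3, 4, 5] [0, 2, 4, 5] 2 (by decide)), sub_ok cert _ (KK elq [0, 2, 4, 5]) hsel [] [4] _ _ rfl rfl (by decide) (sub_memJ elq [0, 1, 2, 3, 4, 5] [0, 2, 4, 5] 4 (by decide)), sub_ok cert _ (KK elq [0, 2, 4, 5]) hsel [] [5] _ _ rfl rfl (by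 decide) (sub_memJ elq [0, 1, 2, 3, 4, 5] [0, 2, 4, 5] 5 (by decide)), trivial⟩

theorem hyp : Hyp cert (KK elq [0, 2, 4, 5]) (fun k => elq (jm [0, 1, 2, 3, 4, 5] k)) := ⟨tree_ok, forall_of_allS subs_ok⟩

theorem hrow : ∀ a < cert.M, row cert a = true := by
  intro a ha
  have ha' : a < 21041 := ha
  rcases Nat.lt_or_ge a 1000 with h0 | h0
  · exact loop_spec row_ok0 a (by omega) (by omega)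
  rcases Nat.lt_or_ge a 2000 with h1 | h1
  · exact loop_spec row_ok1 a (by omega) (by omega)
  rcases Nat.lt_or_ge a 3000 with h2 | h2
  · exact loop_spec row_ok2 a (by omega) (by omega)
  rcases Nat.lt_or_ge a 4000 with h3 | h3
  · exact loop_spec row_ok3 a (by omega) (by omega)
  rcases Nat.lt_or_ge a 5000 with h4 | h4
  · exact loop_spec row_ok4 a (by omega) (by omega)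
  rcases Nat.lt_or_ge a 6000 with h5 | h5
  · exact loop_spec row_ok5 a (by omega) (by omega)
  rcases Nat.lt_or_ge a 7000 with h6 | h6
  · exact loop_spec row_ok6 a (by omega) (by omega)
  rcases Nat.lt_or_ge a 8000 with h7 | h7
  · exact loop_spec row_ok7 a (by omega) (by omega)
  rcases Nat.lt_or_ge a 9000 with h8 | h8
  · exact loop_spec row_ok8 a (by omega) (by omega)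
  rcases Nat.lt_or_ge a 10000 with h9 | h9
  · exact loop_spec row_ok9 a (by omega) (by omega)
  rcases Nat.lt_or_ge a 11000 with h10 | h10
  · exact loop_spec row_ok10 a (by omega) (by omega)
  rcases Nat.lt_or_ge a 12000 with h11 | h11
  · exact loop_spec row_ok11 a (by omega) (by omega)
  rcases Nat.lt_or_ge a 13000 with h12 | h12
  · exact loop_spec row_ok12 a (by omega) (by omega)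
  rcases Nat.lt_or_ge a 14000 with h13 | h13
  · exact loop_spec row_ok13 a (by omega) (by omega)
  rcases Nat.lt_or_ge a 15000 with h14 | h14
  · exact loop_spec row_ok14 a (by omega) (by omega)
  rcases Nat.lt_or_ge a 16000 with h15 | h15
  · exact loop_spec row_ok15 a (by omega) (by omega)
  rcases Nat.lt_or_ge a 17000 with h16 | h16
  · exact loop_spec row_ok16 a (by omega) (by omega)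
  rcases Nat.lt_or_ge a 18000 with h17 | h17
  · exact loop_spec row_ok17 a (by omega) (by omega)
  rcases Nat.lt_or_ge a 19000 with h18 | h18
  · exact loop_spec row_ok18 a (by omega) (by omega)
  rcases Nat.lt_or_ge a 20000 with h19 | h19
  · exact loop_spec row_ok19 a (by omega) (by omega)
  rcases Nat.lt_or_ge a 21000 with h20 | h20
  · exact loop_spec row_ok20 a (by omega) (by omega)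
  exact loop_spec row_ok21 a (by omega) (by omega)

theorem col : KK elq [0, 1, 2, 3, 4, 5] ≤ KK elq [0, 2, 4, 5] :=
  collapseJ elq [0, 1, 2, 3, 4, 5] [0, 2, 4, 5] elq_sq hyp al0 hrow rfl one

end Cfsg.Agent.Lib.Helper19.OrdSuz.Q1
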