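import Cfsg.Agent.Lib.Helper19.PresSuz
import Cfsg.Agent.Lib.Helper19.OrdSuz.U2C0

/-! Generated file: certificates for the order of a presented group. -/

set_option autoImplicit false
set_option maxRecDepth 1000000

namespace Cfsg.Agent.Lib.Helper19.OrdSuz.U2

open Cfsg.Agent.Lib.Helper19.TCS (evn evn_rot evn_rev evn_pair AllS forall_of_allS lift_rels mk_eq_lift cox_swap shapeI prod_rep index_of_equiv orbit_ncard orbit_image ncard_interval fix_of_closure RC)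
open Cfsg.Agent.Lib.Helper19.TC2
open Cfsg.Spor Cfsg.Agent.Lib.Helper19.PresSuz

theorem hsel : ∀ k < cert.LS.length, (sel cert.LS k).1 = k := by decide

theorem lf0 : (∀ p ∈ W0, p ∈ cert.LS) ∧ ev (fun k => el (jm [0, 1, 2, 3] k)) W0 = 1 :=
  leaf_okJ cert el [0, 1, 2, 3] hsel [2, 2] [2, 2] W0 rfl (by decide) rfl (evn_pair el el_sq 2)

theorem lf1 : (∀ p ∈ W1, p ∈ cert.LS) ∧ ev (fun k => el (jm [0, 1, 2, 3] k)) W1 = 1 :=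
  leaf_okJ cert el [0, 1, 2, 3] hsel [0, 2, 0, 2] [0, 2, 0, 2] W1 rfl (by decide) rfl (cox_one 0 2)

theorem lf2 : (∀ p ∈ W2, p ∈ cert.LS) ∧ ev (fun k => el (jm [0, 1, 2, 3] k)) W2 = 1 :=
  leaf_okJ cert el [0, 1, 2, 3] hsel [3, 3] [3, 3] W2 rfl (by decide) rfl (evn_pair el el_sq 3)

theorem lf3 : (∀ p ∈ W3, p ∈ cert.LS) ∧ ev (fun k => el (jm [0, 1, 2, 3] k)) W3 = 1 :=
  leaf_okJ cert el [0, 1, 2, 3] hsel [0, 3, 0, 3] [0, 3, 0, 3] W3 rfl (by decide) rfl (cox_one 0 3)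

theorem lf4 : (∀ p ∈ W4, p ∈ cert.LS) ∧ ev (fun k => el (jm [0, 1, 2, 3] k)) W4 = 1 :=
  leaf_okJ cert el [0, 1, 2, 3] hsel [1, 3, 1, 3] [1, 3, 1, 3] W4 rfl (by decide) rfl (cox_one 1 3)

theorem lf5 : (∀ p ∈ W5, p ∈ cert.LS) ∧ ev (fun k => el (jm [0, 1, 2, 3] k)) W5 = 1 :=
  leaf_okJ cert el [0, 1, 2, 3] hsel [1, 1] [1, 1] W5 rfl (by decide) rfl (evn_pair el el_sq 1)

theorem lf6 : (∀ p ∈ W6, p ∈ cert.LS) ∧ ev (fun k => el (jm [0, 1, 2, 3] k)) W6 = 1 :=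
  leaf_okJ cert el [0, 1, 2, 3] hsel [2, 1, 2, 1, 2, 1] [2, 1, 2, 1, 2, 1] W6 rfl (by decide) rfl (cox_one 2 1)

theorem lf7 : (∀ p ∈ W7, p ∈ cert.LS) ∧ ev (fun k => el (jm [0, 1, 2, 3] k)) W7 = 1 :=
  leaf_okJ cert el [0, 1, 2, 3] hsel [0, 0] [0, 0] W7 rfl (by decide) rfl (evn_pair el el_sq 0)

theorem lf8 : (∀ p ∈ W8, p ∈ cert.LS) ∧ ev (fun k => el (jm [0, 1, 2, 3] k)) W8 = 1 :=
  leaf_okJ cert el [0, 1, 2, 3] hsel [2, 0, 2, 0] [2, 0, 2, 0] W8 rfl (by decide) rfl (cox_one 2 0)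

theorem lf9 : (∀ p ∈ W9, p ∈ cert.LS) ∧ ev (fun k => el (jm [0, 1, 2, 3] k)) W9 = 1 :=
  leaf_okJ cert el [0, 1, 2, 3] hsel [2, 3, 2, 3, 2, 3, 2, 0, 3] [2, 3, 2, 3, 2, 3, 2, 0, 3] W9 rfl (by decide) rfl (evn_rot el [0, 3] [2, 3, 2, 3, 2, 3, 2] xg0_one)

theorem lf10 : (∀ p ∈ W10, p ∈ cert.LS) ∧ ev (fun k => el (jm [0, 1, 2, 3] k)) W10 = 1 :=
  leaf_okJ cert el [0, 1, 2, 3] hsel [1, 0, 1, 0, 1, 0, 1, 0, 1, 0] [1, 0, 1, 0, 1, 0, 1, 0, 1, 0] W10 rfl (by decide) rfl (cox_one 1 0)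

theorem lf11 : (∀ p ∈ W11, p ∈ cert.LS) ∧ ev (fun k => el (jm [0, 1, 2, 3] k)) W11 = 1 :=
  leaf_okJ cert el [0, 1, 2, 3] hsel [1, 2, 1, 2, 1, 2] [1, 2, 1, 2, 1, 2] W11 rfl (by decide) rfl (cox_one 1 2)

theorem lf12 : (∀ p ∈ W12, p ∈ cert.LS) ∧ ev (fun k => el (jm [0, 1, 2, 3] k)) W12 = 1 :=
  leaf_okJ cert el [0, 1, 2, 3] hsel [3, 2, 3, 2, 3, 2, 0, 3, 2] [3, 2, 3, 2, 3, 2, 0, 3, 2] W12 rfl (by decide) rfl (evn_rot el [0, 3, 2] [3, 2, 3, 2, 3, 2] xg0_one)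

theorem lf13 : (∀ p ∈ W13, p ∈ cert.LS) ∧ ev (fun k => el (jm [0, 1, 2, 3] k)) W13 = 1 :=
  leaf_okJ cert el [0, 1, 2, 3] hsel [3, 1, 3, 1] [3, 1, 3, 1] W13 rfl (by decide) rfl (cox_one 3 1)

theorem lf14 : (∀ p ∈ W14, p ∈ cert.LS) ∧ ev (fun k => el (jm [0, 1, 2, 3] k)) W14 = 1 :=
  leaf_okJ cert el [0, 1, 2, 3] hsel [3, 0, 3, 0] [3, 0, 3, 0] W14 rfl (by decide) rfl (cox_one 3 0)

theorem lf15 : (∀ p ∈ W15, p ∈ cert.LS) ∧ ev (fun k => el (jm [0, 1, 2, 3] k)) W15 = 1 :=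
  leaf_okJ cert el [0, 1, 2, 3] hsel [0, 1, 0, 1, 0, 1, 0, 1, 0, 1] [0, 1, 0, 1, 0, 1, 0, 1, 0, 1] W15 rfl (by decide) rfl (cox_one 0 1)

theorem lf16 : (∀ p ∈ W16, p ∈ cert.LS) ∧ ev (fun k => el (jm [0, 1, 2, 3] k)) W16 = 1 :=
  leaf_okJ cert el [0, 1, 2, 3] hsel [3, 2, 3, 2, 3, 2, 3, 2, 0] [3, 2, 3, 2, 3, 2, 3, 2, 0] W16 rfl (by decide) rfl (evn_rot el [0] [3, 2, 3, 2, 3, 2, 3, 2] xg0_one)

theorem tree_ok : cert.tree.All (fun W => (∀ p ∈ W, p ∈ cert.LS) ∧ ev (fun k => el (jm [0, 1, 2, 3] k)) W = 1) :=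
  ⟨⟨⟨⟨⟨lf0, lf16⟩, lf8⟩, ⟨lf4, lf12⟩⟩, ⟨⟨lf2, lf10⟩, ⟨lf6, lf14⟩⟩⟩, ⟨⟨⟨lf1, lf9⟩, ⟨lf5, lf13⟩⟩, ⟨⟨lf3, lf11⟩, ⟨lf7, lf15⟩⟩⟩⟩

theorem subs_ok : AllS (fun XZ : List Letter × List Letter => (∀ p ∈ XZ.1, p ∈ cert.LS) ∧ (∀ p ∈ XZ.2, p ∈ cert.LS) ∧
    ev (fun k => el (jm [0, 1, 2, 3] k)) XZ.1 * ev (fun k => el (jm [0, 1, 2, 3] k)) XZ.2 ∈ KK el [0, 1]) cert.subs :=
  ⟨sub_ok cert _ (KK el [0, 1]) hsel [] [0] _ _ rfl rfl (by decide) (sub_memJ el [0, 1, 2, 3] [0, 1] 0 (by decide)), sub_ok cert _ (KK el [0, 1]) hsel [] [1] _ _ rfl rfl (by decide) (sub_memJ el [0, 1, 2, 3] [0, 1] 1 (by decide)), trivial⟩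

theorem hyp : Hyp cert (KK el [0, 1]) (fun k => el (jm [0, 1, 2, 3] k)) := ⟨tree_ok, forall_of_allS subs_ok⟩

theorem hrow : ∀ a < cert.M, row cert a = true := by
  intro a ha
  have ha' : a < 1283 := ha
  rcases Nat.lt_or_ge a 1000 with h0 | h0
  · exact loop_spec row_ok0 a (by omega) (by omega)
  exact loop_spec row_ok1 a (by omega) (by omega)

theorem ub (hf : Finite (KK el [0, 1])) : Finite (KK el [0, 1, 2, 3]) ∧ Nat.card (KK el [0, 1, 2, 3]) ≤ 216 * Nat.card (KK el [0, 1]) :=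
  ub_stepJ el [0, 1, 2, 3] [0, 1] el_sq hyp al0 hrow rfl cnt hf

end Cfsg.Agent.Lib.Helper19.OrdSuz.U2
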